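import Cfsg.Agent.BenderWorld.Shape.Constituent
import Cfsg.Agent.OddOrderChar.Clifford
import Cfsg.Agent.Coprime.Generation

/-!
# Lemma 2 of the MIXED note: nonreal constituents of the permutation character

If some `y ≠ 1` fixed by `w` centralises the inverted part `N⁻ ≠ 1` of a normal abelian subgroup `N`
of `D`, then `t` is in the kernel of every nonreal constituent.
-/

set_option autoImplicit false
set_option linter.unusedSectionVars false
set_option linter.style.haveILetI false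

namespace CfsgLib.BenderWorld.Shape.Setup

open CfsgLib.Characters
open scoped ComplexConjugate

attribute [local instance high] Fintype.ofFinite

universe u

variable {H : Type u} [Group H] [Finite H] (S : Setup H)

theorem t_mul_t : S.t * S.t = 1 := by
  have := pow_orderOf_eq_one S.t
  rwa [S.ht, pow_two] at this

theorem orderOf_of_isConj {s : H} (hs : IsConj S.t s) : orderOf s = 2 := by
  obtain ⟨c, rfl⟩ := isConj_iff.1 hs
  rw [← MulAut.conj_apply, MulEquiv.orderOf_eq, S.ht]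

theorem mul_self_of_isConj {s : H} (hs : IsConj S.t s) : s * s = 1 := by
  obtain ⟨c, rfl⟩ := isConj_iff.1 hs
  calc c * S.t * c⁻¹ * (c * S.t * c⁻¹) = c * (S.t * S.t) * c⁻¹ := by group
    _ = 1 := by rw [S.t_mul_t]; group

/-- An inverted element conjugate to a fixed one is trivial. -/
theorem eq_one_of_inverted_conj_fixed {k c : S.D} (hk : S.w k = k⁻¹)
    (hc : S.w (c * k * c⁻¹) = c * k * c⁻¹) : k = 1 := by
  set g := (S.w c)⁻¹ * c with hg
  have h1 : g * k * g⁻¹ = k⁻¹ := by
    rw [map_mul, map_mul, map_inv, hk] at hc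
    calc g * k * g⁻¹ = (S.w c)⁻¹ * (c * k * c⁻¹) * S.w c := by rw [hg]; group
      _ = k⁻¹ := by rw [← hc]; group
  have h2 : Commute k (g ^ 2) := by
    refine (mul_inv_eq_iff_eq_mul.1 ?_ : Commute (g ^ 2) k).symm
    calc g ^ 2 * k * (g ^ 2)⁻¹ = g * (g * k * g⁻¹) * g⁻¹ := by rw [pow_two]; group
      _ = g * k⁻¹ * g⁻¹ := by rw [h1]
      _ = (g * k * g⁻¹)⁻¹ := by group
      _ = k := by rw [h1, inv_inv]
  have h3 := Gelfand.commute_of_sq S.odd h2
  rw [← h3.eq, mul_inv_cancel_right] at h1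
  exact Gelfand.sq_inj S.odd (by rw [one_pow, pow_two]; nth_rw 2 [h1]; exact mul_inv_cancel k)

/-- A nontrivial inverted element centralises no conjugate of `t`. -/
theorem not_commute_of_inverted {k : S.D} (hk : S.w k = k⁻¹) (hk1 : k ≠ 1) {s : H}
    (hs : IsConj S.t s) : ¬ Commute (k : H) s := by
  intro hc
  obtain ⟨h, rfl⟩ := isConj_iff.1 hs
  obtain ⟨d, hd, hdt⟩ := S.cover h
  rw [← hdt] at hc
  obtain ⟨c, hc'⟩ := (S.star k).1 ⟨⟨d⁻¹, inv_mem hd⟩, by
    have h2 := hc.map (MulAut.conj d⁻¹).toMonoidHom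
    simp only [MulEquiv.coe_toMonoidHom, MulAut.conj_apply, inv_inv] at h2
    have e : d⁻¹ * (d * S.t * d⁻¹) * d = S.t := by group
    rw [e] at h2
    simpa using h2⟩
  exact hk1 (S.eq_one_of_inverted_conj_fixed hk hc')

/-- The involutions centralised by a nontrivial element fixed by `w` commute. -/
theorem commute_of_fixed {y : S.D} (hy1 : y ≠ 1) {s s' : H} (hs : IsConj S.t s) (hs' : IsConj S.t s')
    (hys : Commute (y : H) s) (hys' : Commute (y : H) s') : Commute s s' := by
  obtain ⟨h, rfl⟩ := isConj_iff.1 hs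
  obtain ⟨d, hd, hdt⟩ := S.cover h
  rw [← hdt] at hys ⊢
  let φ : H →* H := (MulAut.conj d⁻¹).toMonoidHom
  have hφ : ∀ z, φ z = d⁻¹ * z * d := fun z => by simp [φ]
  set x : S.D := (⟨d, hd⟩ : S.D)⁻¹ * y * ⟨d, hd⟩ with hx
  have hx1 : x ≠ 1 := fun e => hy1 (by
    have h1 : (⟨d, hd⟩ : S.D) * x * (⟨d, hd⟩ : S.D)⁻¹ = y := by rw [hx]; group
    rw [← h1, e]; group)
  have hxv : (x : H) = φ y := by rw [hφ, hx]; rfl
  have hxt : Commute (x : H) S.t := by
    have := hys.map φ
    rw [← hxv, hφ (d * S.t * d⁻¹)] at this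
    convert this using 1
    group
  have h2 := S.commute_cent x hx1 hxt (φ s') (hs'.trans (isConj_iff.2 ⟨d⁻¹, by rw [hφ]; group⟩))
    (hxv ▸ hys'.map φ)
  have h3 := h2.map (MulAut.conj d).toMonoidHom
  simp only [MulEquiv.coe_toMonoidHom, MulAut.conj_apply, hφ] at h3
  convert h3.symm using 1
  group

theorem kernel_of_centralized {χ : H → ℂ} (hχ : Cfsg.IsIrrCharacter H χ)
    (hp : Cfsg.classInner S.perm χ ≠ 0) (hreal : ∃ g, (χ g).im ≠ 0) (N : Subgroup S.D) [N.Normal]
    (hNc : ∀ a ∈ N, ∀ b ∈ N, Commute a b) (hNw : ∀ n ∈ N, S.w n ∈ N) {y : S.D} (hy1 : y ≠ 1)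
    (hyw : S.w y = y) {k₀ : S.D} (hk₀ : k₀ ∈ N) (hk₀w : S.w k₀ = k₀⁻¹) (hk₀1 : k₀ ≠ 1)
    (hycent : ∀ n ∈ N, S.w n = n⁻¹ → Commute y n) : χ S.t = χ 1 := by
  classical
  obtain ⟨hθ, -, -, htw, -⟩ := S.restrict_isIrr hχ hp hreal
  obtain ⟨n, ρ, hρ, rfl⟩ := hχ
  -- the inverted part of `N`
  let Nm : Subgroup S.D :=
    { carrier := {k | k ∈ N ∧ S.w k = k⁻¹}
      one_mem' := ⟨one_mem N, by rw [map_one, inv_one]⟩
      mul_mem' := fun {a b} ha hb => ⟨mul_mem ha.1 hb.1, by
        rw [map_mul, ha.2, hb.2, mul_inv_rev]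
        exact ((hNc a ha.1 b hb.1).inv_inv).eq⟩
      inv_mem' := fun {a} ha => ⟨inv_mem ha.1, by rw [map_inv, ha.2]⟩ }
  -- `X(y) > 1`
  have hX : 1 < Nat.card {s : H // IsConj S.t s ∧ (y : H) * s * (y : H)⁻¹ = s} := by
    rw [← S.card_swap y]
    refine lt_of_lt_of_le (?_ : 1 < Nat.card Nm) (Nat.card_le_card_of_injective
      (fun k : Nm => (⟨k.1, k.2.2, by
        rw [hyw, mul_assoc, (hycent _ k.2.1 k.2.2).eq, inv_mul_cancel_left]⟩ :
          {p : S.D // S.w p = p⁻¹ ∧ p⁻¹ * y * p = S.w y})) fun a b e => Subtype.ext (by simpa using e))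
    exact (Finite.one_lt_card_iff_nontrivial (α := Nm)).2
      ⟨⟨1, one_mem _⟩, ⟨k₀, hk₀, hk₀w⟩, fun e => hk₀1 (congrArg Subtype.val e).symm⟩
  -- the four group of the involutions centralised by `y`
  let Z : Subgroup H :=
    { carrier := {s | s = 1 ∨ (IsConj S.t s ∧ Commute (y : H) s)}
      one_mem' := Or.inl rfl
      mul_mem' := by
        rintro a b (rfl | ha) hb
        · rwa [one_mul]
        rcases hb with rfl | hb
        · rw [mul_one]; exact Or.inr ha
        rcases eq_or_ne a b with rfl | hne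
        · exact Or.inl (S.mul_self_of_isConj ha.1)
        have hab := S.commute_of_fixed hy1 ha.1 hb.1 ha.2 hb.2
        refine Or.inr ⟨S.oneClass _ (orderOf_eq_prime ?_ fun e => hne ?_), ha.2.mul_right hb.2⟩
        · rw [pow_two, mul_assoc, ← mul_assoc b, ← hab.eq, mul_assoc a b, S.mul_self_of_isConj hb.1,
            mul_one, S.mul_self_of_isConj ha.1]
        · rw [eq_inv_of_mul_eq_one_left e, inv_eq_of_mul_eq_one_right (S.mul_self_of_isConj hb.1)]
      inv_mem' := by
        rintro a (rfl | ha)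
        · exact Or.inl inv_one
        · exact Or.inr (by rw [inv_eq_of_mul_eq_one_right (S.mul_self_of_isConj ha.1)]; exact ha) }
  have hZsq : ∀ z ∈ Z, z * z = 1 := by
    rintro z (rfl | hz)
    · exact one_mul 1
    · exact S.mul_self_of_isConj hz.1
  have hZc : ∀ a ∈ Z, ∀ b ∈ Z, Commute a b := by
    rintro a (rfl | ha) b (rfl | hb) <;>
      first
      | exact Commute.one_left _
      | exact Commute.one_right _
      | exact S.commute_of_fixed hy1 ha.1 hb.1 ha.2 hb.2
  have hconjZ : ∀ k : Nm, ∀ z ∈ Z, ((k : S.D) : H) * z * ((k : S.D) : H)⁻¹ ∈ Z := by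
    rintro k z (rfl | ⟨hz, hyz⟩)
    · exact Or.inl (by group)
    refine Or.inr ⟨hz.trans (isConj_iff.2 ⟨_, rfl⟩), ?_⟩
    have hyk : Commute (y : H) ((k : S.D) : H) := congrArg Subtype.val (hycent _ k.2.1 k.2.2).eq
    exact (hyk.mul_right hyz).mul_right hyk.inv_right
  -- commutating with `k ≠ 1` is a bijection of `Z`
  have hdiff : ∀ k : Nm, k ≠ 1 → ∀ z ∈ Z, ∃ u ∈ Z, ((k : S.D) : H) * u * ((k : S.D) : H)⁻¹ * u⁻¹ = z := by
    intro k hk z hz
    let f : Z → Z := fun u => ⟨_, mul_mem (hconjZ k u u.2) (inv_mem u.2)⟩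
    have hf : Function.Injective f := by
      intro u v e
      have e' : ((k : S.D) : H) * (u : H) * ((k : S.D) : H)⁻¹ * (u : H)⁻¹ =
          ((k : S.D) : H) * v * ((k : S.D) : H)⁻¹ * (v : H)⁻¹ := congrArg Subtype.val e
      set w := (u : H)⁻¹ * v with hw
      have hwZ : w ∈ Z := mul_mem (inv_mem u.2) v.2
      have hfix : ((k : S.D) : H) * w * ((k : S.D) : H)⁻¹ = w := by
        have hc := hZc _ (hconjZ k u u.2) _ (inv_mem u.2)
        calc ((k : S.D) : H) * w * ((k : S.D) : H)⁻¹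
            = (((k : S.D) : H) * (u : H) * ((k : S.D) : H)⁻¹)⁻¹ *
                (((k : S.D) : H) * v * ((k : S.D) : H)⁻¹) := by rw [hw]; group
          _ = (((k : S.D) : H) * (u : H) * ((k : S.D) : H)⁻¹)⁻¹ *
                (((k : S.D) : H) * v * ((k : S.D) : H)⁻¹ * (v : H)⁻¹) * v := by group
          _ = w := by rw [← e', hw]; group
      rcases hwZ with hw1 | ⟨hwc, -⟩
      · exact Subtype.ext (inv_mul_eq_one.1 hw1)
      · exact absurd (mul_inv_eq_iff_eq_mul.1 hfix : Commute ((k : S.D) : H) w)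
          (S.not_commute_of_inverted k.2.2 (fun e => hk (Subtype.ext e)) hwc)
    obtain ⟨u, hu⟩ := (Finite.injective_iff_surjective.1 hf) ⟨z, hz⟩
    exact ⟨u, u.2, congrArg Subtype.val hu⟩
  by_contra hker
  -- a vector with a nontrivial sign character on `Z`
  obtain ⟨s, ⟨hs, hys⟩⟩ : ∃ s, IsConj S.t s ∧ (y : H) * s * (y : H)⁻¹ = s := by
    obtain ⟨⟨s, hs⟩⟩ := (Nat.card_pos_iff.1 (zero_lt_one.trans hX)).1
    exact ⟨s, hs⟩
  have hsZ : s ∈ Z := Or.inr ⟨hs, mul_inv_eq_iff_eq_mul.1 hys⟩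
  have hnid : ρ s ≠ LinearMap.id := fun e => hker (by
    obtain ⟨c, hc⟩ := isConj_iff.1 hs
    have h1 := (char_eq_finrank_iff ρ s).2 e
    rw [← Representation.char_one ρ, ← hc,
      isClassFunction_of_isCharacter (isCharacter_character ρ) S.t c] at h1
    exact h1)
  have hfixed : ∃ v : Fin n → ℂ, v ≠ 0 ∧ ∀ k : Nm, ρ ((k : S.D) : H) v = v := by
    by_contra! hno
    -- the sum over `N⁻` annihilates the space
    have hP : ∀ v, ∑ k : Nm, ρ ((k : S.D) : H) v = 0 := by
      intro v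
      by_contra h
      obtain ⟨l, hl⟩ := hno _ h
      refine hl ?_
      rw [map_sum]
      refine Fintype.sum_bijective (l * ·) (Group.mulLeft_bijective l) _ _ fun k => ?_
      rw [← Module.End.mul_apply, ← map_mul]
      rfl
    have hsum : ∀ z : H, ∑ k : Nm, ρ.character (z * ((k : S.D) : H)) = 0 := by
      intro z
      simp only [Representation.character, map_mul]
      rw [← map_sum, ← Finset.mul_sum,
        show (∑ k : Nm, ρ ((k : S.D) : H)) = 0 from LinearMap.ext fun v => by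
          rw [LinearMap.sum_apply, hP, LinearMap.zero_apply], mul_zero, map_zero]
    have hz : ∀ k : Nm, k ≠ 1 → ρ.character (s * ((k : S.D) : H)) = ρ.character ((k : S.D) : H) := by
      intro k hk
      obtain ⟨u, hu, huz⟩ := hdiff k hk s hsZ
      have hcl := isClassFunction_of_isCharacter (isCharacter_character ρ)
      rw [← hcl ((k : S.D) : H) u⁻¹]
      congr 1
      rw [← huz, (hZc _ (hconjZ k u hu) _ (inv_mem hu)).eq]
      group
    have h1 := hsum s
    have h2 := hsum 1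
    rw [← Finset.add_sum_erase _ _ (Finset.mem_univ (1 : Nm))] at h1 h2
    rw [Finset.sum_congr rfl fun k hk => hz k (Finset.mem_erase.1 hk).1] at h1
    simp only [OneMemClass.coe_one, mul_one, one_mul] at h1 h2
    refine hnid ((char_eq_finrank_iff ρ s).1 ?_)
    rw [← Representation.char_one ρ]
    exact add_right_cancel (h1.trans h2.symm)
  -- a constituent of the restriction to `N` trivial on the inverted part
  set ψ : N → ℂ := fun m => ρ.character ((m : S.D) : H) with hψdef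
  have hψ : Cfsg.IsCharacter N ψ :=
    isCharacter_comp (S.D.subtype.comp N.subtype) (isCharacter_character ρ)
  haveI : IsMulCommutative N := ⟨⟨fun a b => Subtype.ext (hNc a a.2 b b.2).eq⟩⟩
  have hlin : ∀ μ : Cfsg.IrrCharacter N, ∃ f : N →* ℂˣ, (μ : N → ℂ) = fun m => (f m : ℂ) := by
    intro μ
    refine exists_hom_of_degree_one (isCharacter_of_isIrr μ.2) ?_
    obtain ⟨m, σ, hσ, h⟩ := μ.2
    rw [← h, Representation.char_one,
      Representation.IsIrreducible.finrank_eq_one_of_isMulCommutative σ, Nat.cast_one]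
  obtain ⟨μ, hμ0, hμtriv⟩ : ∃ μ : Cfsg.IrrCharacter N, Cfsg.classInner ψ (μ : N → ℂ) ≠ 0 ∧
      ∀ m : N, S.w (m : S.D) = (m : S.D)⁻¹ → (μ : N → ℂ) m = 1 := by
    by_contra! hno
    let σ : Representation ℂ Nm (Fin n → ℂ) := ρ.comp (S.D.subtype.comp Nm.subtype)
    haveI : Invertible (Nat.card Nm : ℂ) := invertibleOfNonzero (Nat.cast_ne_zero.2 Nat.card_pos.ne')
    let ι : Nm → N := fun k => ⟨(k : S.D), k.2.1⟩
    have h0 : ∑ k : Nm, σ.character k = 0 := by
      have he : ∀ k : Nm, σ.character k = ψ (ι k) := fun k => rfl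
      simp only [he]
      rw [character_expansion hψ]
      simp only [Finset.sum_apply, Pi.smul_apply, smul_eq_mul]
      rw [Finset.sum_comm]
      refine Finset.sum_eq_zero fun μ _ => ?_
      rw [← Finset.mul_sum]
      by_cases hc : Cfsg.classInner ψ (μ : N → ℂ) = 0
      · rw [hc, zero_mul]
      · obtain ⟨f, hf⟩ := hlin μ
        obtain ⟨m, hm, hm1⟩ := hno μ hc
        let g : Nm →* ℂ := ((Units.coeHom ℂ).comp f).comp
          { toFun := ι, map_one' := rfl, map_mul' := fun _ _ => rfl }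
        have hg : g ≠ 1 := fun e => hm1 (by
          rw [hf]
          exact DFunLike.congr_fun e ⟨(m : S.D), m.2, hm⟩)
        rw [hf]
        exact mul_eq_zero_of_right _ (sum_hom_units_eq_zero g hg)
    have hfr := Representation.card_inv_mul_sum_char_eq_finrank σ
    rw [h0, mul_zero] at hfr
    have hbot : Representation.invariants σ = ⊥ :=
      Submodule.finrank_eq_zero.1 (Nat.cast_eq_zero.1 hfr.symm)
    obtain ⟨v, hv, hvk⟩ := hfixed
    have : v ∈ Representation.invariants σ := fun k => hvk k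
    rw [hbot, Submodule.mem_bot] at this
    exact hv this
  obtain ⟨f, hf⟩ := hlin μ
  -- `μ` is fixed by `w`, so its conjugate lies below too
  have hμw : ∀ m : N, f ⟨S.w (m : S.D), hNw m m.2⟩ = f m := by
    intro m
    set m' : N := ⟨S.w (m : S.D), hNw m m.2⟩
    have h1 : (μ : N → ℂ) (m * m'⁻¹) = 1 := hμtriv _ (by
      show S.w ((m : S.D) * (S.w (m : S.D))⁻¹) = ((m : S.D) * (S.w (m : S.D))⁻¹)⁻¹
      rw [map_mul, map_inv, S.w_w]
      group)
    rw [hf] at h1
    have h2 : f (m * m'⁻¹) = 1 := Units.ext h1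
    rw [map_mul, map_inv, mul_inv_eq_one] at h2
    exact h2.symm
  let wN : N ≃ N :=
    { toFun := fun m => ⟨S.w (m : S.D), hNw m m.2⟩
      invFun := fun m => ⟨S.w (m : S.D), hNw m m.2⟩
      left_inv := fun m => Subtype.ext (S.w_w m)
      right_inv := fun m => Subtype.ext (S.w_w m) }
  have hcμ : Cfsg.IsIrrCharacter N (fun m => conj ((μ : N → ℂ) m)) := isIrr_conj μ.2
  have hbar : Cfsg.classInner ψ (fun m => conj ((μ : N → ℂ) m)) ≠ 0 := by
    have h1 : Cfsg.classInner ψ (fun m => conj ((μ : N → ℂ) m)) =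
        Cfsg.classInner (fun m => conj (ψ m)) (fun m => conj ((μ : N → ℂ) m)) := by
      simp only [Cfsg.classInner, Complex.conj_conj]
      congr 1
      refine Fintype.sum_equiv wN _ _ fun m => ?_
      have h2 : ψ (wN m) = conj (ψ m) := htw (m : S.D)
      rw [h2, Complex.conj_conj, hf]
      show _ = ψ m * (f (wN m) : ℂ)
      rw [show f (wN m) = f m from hμw m]
    rw [h1, classInner_conj_conj, ne_eq, map_eq_zero]
    exact hμ0
  -- Clifford: the orbit of `μ` is `{1}`
  have hcl := CfsgLib.OddOrderChar.clifford_restrict N hθ μ.2 hμ0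
  obtain ⟨d, hd⟩ : ∃ d : S.D, CfsgLib.OddOrderChar.conjBy N (μ : N → ℂ) d = fun m => conj ((μ : N → ℂ) m) := by
    by_contra! hno
    refine hbar ?_
    change Cfsg.classInner (fun m : N => (fun d : S.D => ρ.character (d : H)) m) _ = 0
    rw [hcl, classInner_smul_left, classInner_sum_left, Finset.sum_eq_zero fun b hb => ?_, mul_zero]
    obtain ⟨d, rfl⟩ := (CfsgLib.OddOrderChar.mem_conjOrbit N).1 hb
    exact classInner_isIrr_ne (CfsgLib.OddOrderChar.isIrr_conjBy N μ.2 d) hcμ (hno d)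
  have hd2 : CfsgLib.OddOrderChar.conjBy N (μ : N → ℂ) (d ^ 2) = (μ : N → ℂ) := by
    funext m
    have h1 := fun m' => congrFun hd m'
    simp only [CfsgLib.OddOrderChar.conjBy] at h1 ⊢
    conv_rhs => rw [← Complex.conj_conj ((μ : N → ℂ) m), ← h1 m, ← h1]
    exact congrArg (fun x : N => (μ : N → ℂ) x) (Subtype.ext (by simp [pow_two, mul_assoc]))
  have hd1 : CfsgLib.OddOrderChar.conjBy N (μ : N → ℂ) d = (μ : N → ℂ) := by
    let St : Subgroup S.D :=
      { carrier := {e | CfsgLib.OddOrderChar.conjBy N (μ : N → ℂ) e = (μ : N → ℂ)}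
        one_mem' := by funext m; simp [CfsgLib.OddOrderChar.conjBy]
        mul_mem' := fun {a b} ha hb => by
          show _ = _
          rw [← CfsgLib.OddOrderChar.conjBy_mul, show _ = _ from ha]
          exact hb
        inv_mem' := fun {a} ha => by
          show _ = _
          conv_lhs => rw [← ha]
          rw [CfsgLib.OddOrderChar.conjBy_mul, mul_inv_cancel]
          funext m; simp [CfsgLib.OddOrderChar.conjBy] }
    exact Gelfand.mem_of_sq_mem S.odd (show d ^ 2 ∈ St from hd2)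
  have hNodd : Odd (Nat.card N) := S.odd.of_dvd_nat (Subgroup.card_subgroup_dvd_card N)
  have hμ1 : (μ : N → ℂ) = fun _ => 1 := by
    refine eq_one_of_real_of_odd hNodd μ.2 fun m => Complex.conj_eq_iff_im.1 ?_
    exact (congrFun (hd.symm.trans hd1) m)
  have hψ1 : ∀ m : N, ψ m = ψ 1 := by
    intro m
    have h1 : ∀ m : N, ψ m = (Cfsg.classInner ψ (μ : N → ℂ) •
        ∑ b ∈ CfsgLib.OddOrderChar.conjOrbit N (μ : N → ℂ), b) m := fun m => congrFun hcl m
    rw [h1, h1]
    simp only [Pi.smul_apply, Finset.sum_apply]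
    congr 1
    refine Finset.sum_congr rfl fun b hb => ?_
    obtain ⟨e, rfl⟩ := (CfsgLib.OddOrderChar.mem_conjOrbit N).1 hb
    rw [hμ1]
    rfl
  -- hence `N` and with it the involutions centralised by `y` act trivially
  have hk : ρ ((k₀ : S.D) : H) = LinearMap.id := by
    refine (char_eq_finrank_iff ρ _).1 ?_
    rw [← Representation.char_one ρ]
    exact hψ1 ⟨k₀, hk₀⟩
  obtain ⟨u, hu, hus⟩ := hdiff ⟨k₀, hk₀, hk₀w⟩ (fun e => hk₀1 (congrArg Subtype.val e)) s hsZ
  refine hnid ?_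
  have hk' : ρ ((k₀ : S.D) : H) = 1 := hk
  have hki : ρ ((k₀ : S.D) : H)⁻¹ = 1 := by
    have h1 : ρ ((k₀ : S.D) : H) * ρ ((k₀ : S.D) : H)⁻¹ = 1 := by
      rw [← map_mul, mul_inv_cancel, map_one]
    rwa [hk', one_mul] at h1
  show ρ s = 1
  rw [← hus, map_mul, map_mul, map_mul, hk', hki, one_mul, mul_one, ← map_mul, mul_inv_cancel, map_one]

end CfsgLib.BenderWorld.Shape.Setup
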